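import Groth.Agent.S1455
import Groth.Agent.S7761
import Groth.Agent.BCLib.Local
import Groth.Agent.BlowAvoidLib.Sep

/-!
# Only finitely many Euler characteristic functions occur in a family
-/

set_option autoImplicit false
set_option backward.isDefEq.respectTransparency false
set_option linter.style.haveILetI false

universe u

open CategoryTheory CategoryTheory.Limits AlgebraicGeometry

noncomputable section

namespace Groth.Agent.HilbStratLib

variable {X S : Scheme.{u}}

/-- The Euler characteristics of the twists on the fibre. -/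
def eul (f : X ⟶ S) (F L : X.Modules) (s : S) (m : ℕ) : ℤ :=
  PerfAux.eulerChar f (CohB1.tensorMod F (CohB1.tensorPow L m)) s

theorem isFP_twist {F L : X.Modules} (hF : CohB1.IsFP F) (hL : PicF.IsInvertible L) (m : ℕ) :
    CohB1.IsFP (CohB1.tensorMod F (CohB1.tensorPow L m)) :=
  GenBCLib.isFP_tensor_invertible hF (AmpleLib.isInvertible_tensorPow hL m)

theorem eul_baseChange {X' T : Scheme.{u}} {f : X ⟶ S} {f' : X' ⟶ T} {g' : X' ⟶ X} {g : T ⟶ S}
    (h : IsPullback g' f' f g) [IsProper f] [IsProper f'] {F L : X.Modules} (hF : CohB1.IsFP F)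
    (hL : PicF.IsInvertible L) (t : T) :
    eul f' ((Scheme.Modules.pullback g').obj F) ((Scheme.Modules.pullback g').obj L) t = eul f F L (g t) := by
  funext m
  let G := CohB1.tensorMod F (CohB1.tensorPow L m)
  haveI : Coh.IsQCoh G := FibreDepth.isQCoh_of_isFP G (isFP_twist hF hL m)
  let e : (Scheme.Modules.pullback g').obj G ≅
      CohB1.tensorMod ((Scheme.Modules.pullback g').obj F) (CohB1.tensorPow ((Scheme.Modules.pullback g').obj L) m) :=
    AmpleLib.pullTensor g' _ _ ≪≫ AmpleLib.tIso (Iso.refl _) (AmpleLib.pullPow g' _ _)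
  letI : (f'.fiber t).Over (Spec (CommRingCat.of (T.residueField t))) := ⟨f'.fiberToSpecResidueField t⟩
  haveI : IsProper ((f'.fiber t) ↘ Spec (CommRingCat.of (T.residueField t))) :=
    MorphismProperty.pullback_snd (P := @IsProper) _ _ ‹IsProper f'›
  refine (show eul f' _ _ t m = PerfAux.eulerChar f' ((Scheme.Modules.pullback g').obj G) t from ?_).trans
    (finsum_congr fun i => ?_)
  · exact (CurveLib.euler_iso (K := T.residueField t) ((Scheme.Modules.pullback (f'.fiberι t)).mapIso e)).symm
  · exact congrArg (fun z : ℕ => (-1 : ℤ) ^ i * (z : ℤ)) (BCLib.fiberRank_baseChange h G i t)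

theorem finite_range_flat {X' T : Scheme.{u}} {f : X ⟶ S} {f' : X' ⟶ T} {g' : X' ⟶ X} {g : T ⟶ S}
    (h : IsPullback g' f' f g) [IsProper f] [LocallyOfFinitePresentation f] [CompactSpace T] {F L : X.Modules}
    (hF : CohB1.IsFP F) (hL : PicF.IsInvertible L)
    (hfl : FlatMod.IsFlatOver f' ((Scheme.Modules.pullback g').obj F)) :
    (Set.range fun t : T => eul f F L (g t)).Finite := by
  haveI : IsProper f' := MorphismProperty.of_isPullback (P := @IsProper) h inferInstance
  haveI : LocallyOfFinitePresentation f' :=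
    MorphismProperty.of_isPullback (P := @LocallyOfFinitePresentation) h inferInstance
  haveI := FibreDepth.isQCoh_of_isFP F hF
  have hlc : IsLocallyConstant fun t : T => eul f F L (g t) := by
    refine (IsLocallyConstant.iff_eventually_eq _).2 fun t => ?_
    obtain ⟨U, htU, hU⟩ := S7761.result X' T f' _ (PullbackMod.isFP_pullback g' F hF) hfl 1
      (fun _ => (Scheme.Modules.pullback g').obj L) (fun _ => AmpleLib.isInvertible_pullback g' hL) t
    refine Filter.eventually_of_mem (U.isOpen.mem_nhds htU) fun y hy => ?_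
    rw [← eul_baseChange h hF hL, ← eul_baseChange h hF hL]
    exact funext fun m => hU y hy fun _ => m
  exact hlc.range_finite

theorem exists_step {α : Type*} : ∀ {t : ℕ} (A : Fin (t + 1) → Set α) (a : α), a ∈ A 0 → a ∉ A (Fin.last t) →
    ∃ i : Fin t, a ∈ A i.castSucc ∧ a ∉ A i.succ
  | 0, _, _, h0, h1 => absurd h0 h1
  | t + 1, A, a, h0, h1 => by
    by_cases h : a ∈ A (Fin.last t).castSucc
    · exact ⟨Fin.last t, h, h1⟩
    · obtain ⟨i, hi, hi'⟩ := exists_step (fun i => A i.castSucc) a h0 h
      exact ⟨i.castSucc, hi, hi'⟩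

theorem finite_range_affine [IsAffine S] (f : X ⟶ S) [IsProper f] [LocallyOfFinitePresentation f]
    {F L : X.Modules} (hF : CohB1.IsFP F) (hL : PicF.IsInvertible L) : (Set.range (eul f F L)).Finite := by
  obtain ⟨t, I, -, htop, h0, hfg, hfl⟩ := S1455.result f F (FibreDepth.isQCoh_of_isFP F hF) hF
  let Z := fun i : Fin t => (I i.castSucc).subschemeι ⁻¹ᵁ (I i.succ).support.compl
  let k := fun i : Fin t => (Z i).ι ≫ (I i.castSucc).subschemeι
  have hfin : ∀ i, (Set.range fun z => eul f F L (k i z)).Finite := fun i => by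
    haveI : CompactSpace (Z i : Scheme.{u}) := by
      refine isCompact_iff_compactSpace.1 ?_
      exact (I i.castSucc).subschemeι.isClosedEmbedding.isCompact_preimage
        (BlowAvoidLib.isCompact_compl_support (I i.succ) fun U => hfg _ U)
    exact finite_range_flat (IsPullback.of_hasPullback f (k i)) hF hL (hfl i)
  refine (Set.finite_iUnion hfin).subset ?_
  rintro _ ⟨s, rfl⟩
  obtain ⟨i, hi, hi'⟩ := exists_step (fun i => ((I i).support : Set S)) s
    (by show s ∈ ((I 0).support : Set S); rw [h0]; trivial)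
    (by show s ∉ ((I (Fin.last t)).support : Set S); simp [htop])
  obtain ⟨w, hw⟩ : s ∈ Set.range (I i.castSucc).subschemeι := by
    rw [Scheme.IdealSheafData.range_subschemeι]; exact hi
  exact Set.mem_iUnion.2 ⟨i, ⟨w, show (I i.castSucc).subschemeι w ∉ ((I i.succ).support : Set S) by rw [hw]; exact hi'⟩,
    by show eul f F L ((I i.castSucc).subschemeι w) = _; rw [hw]⟩

/-- Finitely many Euler characteristic functions occur on the fibres. -/
theorem finite_range [CompactSpace S] (f : X ⟶ S) [IsProper f] [LocallyOfFinitePresentation f]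
    {F L : X.Modules} (hF : CohB1.IsFP F) (hL : PicF.IsInvertible L) : (Set.range (eul f F L)).Finite := by
  let 𝒰 := S.affineCover.finiteSubcover
  have hfin : ∀ j, (Set.range fun z : 𝒰.X j => eul f F L (𝒰.f j z)).Finite := fun j => by
    haveI : IsProper (pullback.snd f (𝒰.f j)) := MorphismProperty.pullback_snd (P := @IsProper) _ _ inferInstance
    haveI : LocallyOfFinitePresentation (pullback.snd f (𝒰.f j)) :=
      MorphismProperty.pullback_snd (P := @LocallyOfFinitePresentation) _ _ inferInstance
    haveI := FibreDepth.isQCoh_of_isFP F hF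
    haveI : IsAffine (𝒰.X j) := by dsimp [𝒰]; infer_instance
    refine (finite_range_affine (pullback.snd f (𝒰.f j)) (PullbackMod.isFP_pullback (pullback.fst f (𝒰.f j)) F hF)
      (AmpleLib.isInvertible_pullback (pullback.fst f (𝒰.f j)) hL)).subset ?_
    rintro _ ⟨z, rfl⟩
    exact ⟨z, eul_baseChange (IsPullback.of_hasPullback f (𝒰.f j)) hF hL z⟩
  haveI : Finite 𝒰.I₀ := inferInstance
  refine (Set.finite_iUnion hfin).subset ?_
  rintro _ ⟨s, rfl⟩
  obtain ⟨j, z, hz⟩ := 𝒰.exists_eq s
  exact Set.mem_iUnion.2 ⟨j, z, congrArg (eul f F L) hz⟩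

end Groth.Agent.HilbStratLib
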