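import Groth.Agent.HilbStratLib.Finite
import Groth.Agent.GenSeesawLib.ProjFibre
import Groth.Agent.CMRegLib.BoundFree
import Groth.Agent.CMRegLib.OnX
import Groth.Agent.CMRegLib.EulerPoly
import Groth.Prelude.Def_FGA

/-!
# Hilbert polynomials of the fibres on projective space over a base
-/

set_option autoImplicit false
set_option backward.isDefEq.respectTransparency false
set_option linter.style.haveILetI false

universe u

open CategoryTheory CategoryTheory.Limits AlgebraicGeometry

noncomputable section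

namespace Groth.Agent.HilbStratLib

theorem exists_euler_poly {k : Type u} [Field k] {n : ℕ} {F : (CohB1.ProjSpace n k).Modules} (hF : Coh.IsCoh F) :
    ∃ Q : Polynomial ℚ, ∀ t : ℤ,
      (Curv2.euler k (CohB1.ProjSpace n k) (CohB1.tensorMod F (Twist.twistProjSpace n k t)) : ℚ) = Q.eval (t : ℚ) := by
  let K := AlgebraicClosure k
  haveI := CMRegLib.isNoetherian_projSpace (k := k) (n := n)
  haveI := CMRegLib.isNoetherian_projSpace (k := K) (n := n)
  obtain ⟨Q, hQ⟩ := CMRegLib.exists_euler_poly _ (PullbackMod.isCoh_pullback (GenSeesawLib.bcMap n k K) F hF)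
  exact ⟨Q, fun t => by rw [← hQ t, CMRegLib.euler_bcMap K hF]⟩

variable {S : Scheme.{u}} {n : ℕ}

theorem nonempty_twist_fibre (y : S) (d : ℤ) :
    Nonempty ((Scheme.Modules.pullback (GenSeesawLib.fibreMap n S y)).obj (Twist.twistOver n S d) ≅
      Twist.twistProjSpace n (S.residueField y) d) :=
  (PicLib.cls_eq_cls _ _).1 ((PicLib.pull_cls _ (GenSeesawLib.isInvertible_twistOver n S d)).symm.trans
    (GenSeesawLib.pull_fibreMap_twist n S y d))

theorem fiberRank_proj (M : (CohB1.ProjSpaceOver n S).Modules) [Coh.IsQCoh M] (y : S) (p : ℕ) :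
    CohIII.fiberRank (CohB1.ProjSpaceOver.toBase n S) M p y =
      Module.finrank (S.residueField y) (Coh.HH (CohB1.ProjSpace n (S.residueField y))
        ((Scheme.Modules.pullback (GenSeesawLib.fibreMap n S y)).obj M) p) := by
  haveI : IsProper (CohB1.ProjSpaceOver.toBase n S) := BCLib.isProper_toBase n S
  letI : ((CohB1.ProjSpaceOver.toBase n S).fiber y).Over (Spec (CommRingCat.of (S.residueField y))) :=
    ⟨(CohB1.ProjSpaceOver.toBase n S).fiberToSpecResidueField y⟩
  haveI : IsProper (FormalLib.str (S.residueField y) ((CohB1.ProjSpaceOver.toBase n S).fiber y)) :=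
    inferInstanceAs (IsProper (pullback.snd (CohB1.ProjSpaceOver.toBase n S) (S.fromSpecResidueField y)))
  haveI : Coh.IsQCoh (CohIII.fiberMod (CohB1.ProjSpaceOver.toBase n S) M y) := PullbackMod.isQCoh_pullback _ M
  have hc : IsPullback (GenSeesawLib.fibreIso n S y).hom (FormalLib.str (S.residueField y) (CohB1.ProjSpace n (S.residueField y)))
      (FormalLib.str (S.residueField y) ((CohB1.ProjSpaceOver.toBase n S).fiber y))
      (Spec.map (𝟙 (CommRingCat.of (S.residueField y)))) :=
    IsPullback.of_horiz_isIso ⟨by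
      rw [Spec.map_id, Category.comp_id]
      exact (GenSeesawLib.exists_fibreIso n S y).choose_spec.2⟩
  exact (BCLib.finrank_HH_fieldExt hc (CohIII.fiberMod (CohB1.ProjSpaceOver.toBase n S) M y) p
    ((Scheme.Modules.pullbackComp _ _).app M)).symm

theorem sum_fibre_twist {F : (CohB1.ProjSpaceOver n S).Modules} [IsLocallyNoetherian S] (hF : Coh.IsCoh F) (y : S)
    (m : ℤ) {L : (CohB1.ProjSpaceOver n S).Modules} (hL : PicF.IsInvertible L)
    (e : (Scheme.Modules.pullback (GenSeesawLib.fibreMap n S y)).obj L ≅ Twist.twistProjSpace n (S.residueField y) m)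
    (N : ℕ) (hN : n < N) :
    ∑ i ∈ Finset.range N, (-1 : ℤ) ^ i *
        (CohIII.fiberRank (CohB1.ProjSpaceOver.toBase n S) (CohB1.tensorMod F L) i y : ℤ) =
      Curv2.euler (S.residueField y) (CohB1.ProjSpace n (S.residueField y))
        (CohB1.tensorMod ((Scheme.Modules.pullback (GenSeesawLib.fibreMap n S y)).obj F)
          (Twist.twistProjSpace n (S.residueField y) m)) := by
  haveI : IsProper (CohB1.ProjSpace n (S.residueField y) ↘ Spec (CommRingCat.of (S.residueField y))) :=
    CompleteCurve.isProper_toSpec n _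
  haveI := CMRegLib.isNoetherian_projSpace (k := S.residueField y) (n := n)
  haveI : IsProper (CohB1.ProjSpaceOver.toBase n S) := BCLib.isProper_toBase n S
  haveI : IsLocallyNoetherian (CohB1.ProjSpaceOver n S) :=
    LocallyOfFiniteType.isLocallyNoetherian (CohB1.ProjSpaceOver.toBase n S)
  haveI : Coh.IsQCoh (CohB1.tensorMod F L) := (CMRegLib.isCoh_tensor_inv hF hL).1
  rw [CurveLib.euler_eq_sum (K := S.residueField y) _ N fun i hi =>
    CMRegLib.vanish_high (PullbackMod.isCoh_pullback _ F hF) m (by omega)]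
  refine Finset.sum_congr rfl fun i _ => congrArg (fun z : ℕ => (-1 : ℤ) ^ i * (z : ℤ)) ?_
  exact (fiberRank_proj _ y i).trans
    (CMRegLib.hh_finrank_iso (AmpleLib.pullTensor _ F L ≪≫ AmpleLib.tIso (Iso.refl _) e) i)

theorem eul_eq_euler [IsLocallyNoetherian S] {F : (CohB1.ProjSpaceOver n S).Modules} (hF : Coh.IsCoh F) (y : S) (m : ℕ) :
    eul (CohB1.ProjSpaceOver.toBase n S) F (Twist.twistOver n S 1) y m =
      Curv2.euler (S.residueField y) (CohB1.ProjSpace n (S.residueField y))
        (CohB1.tensorMod ((Scheme.Modules.pullback (GenSeesawLib.fibreMap n S y)).obj F)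
          (Twist.twistProjSpace n (S.residueField y) (m : ℤ))) := by
  haveI : IsProper (CohB1.ProjSpaceOver.toBase n S) := BCLib.isProper_toBase n S
  haveI : IsLocallyNoetherian (CohB1.ProjSpaceOver n S) :=
    LocallyOfFiniteType.isLocallyNoetherian (CohB1.ProjSpaceOver.toBase n S)
  have hL := AmpleLib.isInvertible_tensorPow (GenSeesawLib.isInvertible_twistOver n S 1) m
  obtain ⟨e1⟩ := nonempty_twist_fibre (n := n) y 1
  let e : (Scheme.Modules.pullback (GenSeesawLib.fibreMap n S y)).obj (CohB1.tensorPow (Twist.twistOver n S 1) m) ≅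
      Twist.twistProjSpace n (S.residueField y) (m : ℤ) := AmpleLib.pullPow (GenSeesawLib.fibreMap n S y) (Twist.twistOver n S 1) m ≪≫ AmpleLib.powCongr e1 m ≪≫
    CMRegLib.powTwistIso m
  haveI := CMRegLib.isNoetherian_projSpace (k := S.residueField y) (n := n)
  haveI : IsProper (CohB1.ProjSpace n (S.residueField y) ↘ Spec (CommRingCat.of (S.residueField y))) :=
    CompleteCurve.isProper_toSpec n _
  rw [← sum_fibre_twist hF y m hL e (n + 1) (by omega)]
  refine (finsum_eq_sum_of_support_subset _ ?_).trans rfl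
  intro i hi
  rw [Finset.coe_range, Set.mem_Iio]
  by_contra hc
  refine hi ?_
  haveI : Coh.IsQCoh (CohB1.tensorMod F (CohB1.tensorPow (Twist.twistOver n S 1) m)) :=
    (CMRegLib.isCoh_tensor_inv hF hL).1
  show (-1 : ℤ) ^ i * (CohIII.fiberRank _ _ i y : ℤ) = 0
  rw [fiberRank_proj, CMRegLib.hh_finrank_iso (AmpleLib.pullTensor _ F _ ≪≫ AmpleLib.tIso (Iso.refl _) e) i,
    @Module.finrank_zero_of_subsingleton _ _ _ _ _ _ (CMRegLib.vanish_high (PullbackMod.isCoh_pullback _ F hF) m (by omega))]
  simp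

/-- Finitely many Hilbert polynomials on the fibres of projective space over a Noetherian base. -/
theorem exists_finite_hilb [IsNoetherian S] {F : (CohB1.ProjSpaceOver n S).Modules} (hF : Coh.IsCoh F) :
    ∃ I : Set (Polynomial ℚ), I.Finite ∧ ∀ y : S, ∃ P ∈ I, ∀ m : ℤ,
      (Curv2.euler (S.residueField y) (CohB1.ProjSpace n (S.residueField y))
        (CohB1.tensorMod ((Scheme.Modules.pullback (GenSeesawLib.fibreMap n S y)).obj F)
          (Twist.twistProjSpace n (S.residueField y) m)) : ℚ) = P.eval (m : ℚ) := by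
  haveI : IsProper (CohB1.ProjSpaceOver.toBase n S) := BCLib.isProper_toBase n S
  haveI := GenSeesawLib.lfp_toBase n S
  haveI : IsLocallyNoetherian (CohB1.ProjSpaceOver n S) :=
    LocallyOfFiniteType.isLocallyNoetherian (CohB1.ProjSpaceOver.toBase n S)
  choose Q hQ using fun y : S => exists_euler_poly
    (k := S.residueField y) (n := n)
    (F := (Scheme.Modules.pullback (GenSeesawLib.fibreMap n S y)).obj F)
    (haveI := CMRegLib.isNoetherian_projSpace (k := S.residueField y) (n := n); PullbackMod.isCoh_pullback _ F hF)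
  refine ⟨Set.range Q, ?_, fun y => ⟨Q y, ⟨y, rfl⟩, hQ y⟩⟩
  have hfin := finite_range (CohB1.ProjSpaceOver.toBase n S) (QCohLib.isFP_of_isCoh F hF)
    (GenSeesawLib.isInvertible_twistOver n S 1)
  classical
  let mk : (ℕ → ℤ) → Polynomial ℚ := fun g =>
    if h : ∃ P : Polynomial ℚ, ∀ m : ℕ, (g m : ℚ) = P.eval (m : ℚ) then h.choose else 0
  refine (hfin.image mk).subset ?_
  rintro _ ⟨y, rfl⟩
  refine ⟨_, ⟨y, rfl⟩, ?_⟩
  have hex : ∃ P : Polynomial ℚ, ∀ m : ℕ,
      (eul (CohB1.ProjSpaceOver.toBase n S) F (Twist.twistOver n S 1) y m : ℚ) = P.eval (m : ℚ) :=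
    ⟨Q y, fun m => by rw [eul_eq_euler hF, hQ y, Int.cast_natCast]⟩
  simp only [mk, dif_pos hex]
  refine Polynomial.eq_of_infinite_eval_eq _ _ (Set.Infinite.mono (s := Set.range fun m : ℕ => (m : ℚ)) ?_
    (Set.infinite_range_of_injective Nat.cast_injective))
  rintro _ ⟨m, rfl⟩
  show hex.choose.eval _ = (Q y).eval _
  rw [← hex.choose_spec m, eul_eq_euler hF, hQ y, Int.cast_natCast]

end Groth.Agent.HilbStratLib
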