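import Groth.Agent.HilbStratLib.ProjFibre
import Groth.Agent.CMRegLib.Bounded
import Groth.Agent.BCLib.Grauert
import Groth.Agent.TwistFlatLib.Flat
import Groth.Agent.S15985
import Groth.Agent.S19429
import Groth.Agent.S11319
import Groth.Agent.S1027
import Groth.Prelude.Def_KRR

/-!
# Direct images of flat modules with regular fibres
-/

set_option autoImplicit false
set_option backward.isDefEq.respectTransparency false
set_option linter.style.haveILetI false

universe u

open CategoryTheory CategoryTheory.Limits AlgebraicGeometry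

noncomputable section

namespace Groth.Agent.HilbStratLib

variable {S : Scheme.{u}} {n : ℕ}

theorem nonempty_twistOver_mul {a b c : ℤ} (h : a + b = c) :
    Nonempty (CohB1.tensorMod (Twist.twistOver n S a) (Twist.twistOver n S b) ≅ Twist.twistOver n S c) := by
  subst h
  let e : CohB1.tensorMod (Twist.twistProjSpace n (ULift.{u} ℤ) a) (Twist.twistProjSpace n (ULift.{u} ℤ) b) ≅
      Twist.twistProjSpace n (ULift.{u} ℤ) (a + b) :=
    ProjTwistLib.mulIso (𝒜 := CohB1.polyGrading n (ULift.{u} ℤ)) rfl (PicProjLib.hasUnit a)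
  exact ⟨(AmpleLib.pullTensor _ _ _).symm ≪≫ (Scheme.Modules.pullback _).mapIso e⟩

/-- `IsMRegular` read off the dimensions on a fibre. -/
theorem regular_of_fibres [IsNoetherian S] {Q : (CohB1.ProjSpaceOver n S).Modules} (hQ : Coh.IsCoh Q) {m : ℤ}
    (y : S) (hreg : ∀ i : ℕ, 1 ≤ i →
      CohIII.fiberRank (CohB1.ProjSpaceOver.toBase n S) (CohB1.tensorMod Q (Twist.twistOver n S (m - i))) i y = 0) :
    Curv2.IsMRegular (S.residueField y) n ((Scheme.Modules.pullback (GenSeesawLib.fibreMap n S y)).obj Q) m := by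
  haveI : IsProper (CohB1.ProjSpaceOver.toBase n S) := BCLib.isProper_toBase n S
  haveI : IsLocallyNoetherian (CohB1.ProjSpaceOver n S) :=
    LocallyOfFiniteType.isLocallyNoetherian (CohB1.ProjSpaceOver.toBase n S)
  haveI : IsProper (CohB1.ProjSpace n (S.residueField y) ↘ Spec (CommRingCat.of (S.residueField y))) :=
    CompleteCurve.isProper_toSpec n _
  haveI := CMRegLib.isNoetherian_projSpace (k := S.residueField y) (n := n)
  intro i hi _
  have hL := GenSeesawLib.isInvertible_twistOver n S (m - (i : ℤ))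
  haveI : Coh.IsQCoh (CohB1.tensorMod Q (Twist.twistOver n S (m - (i : ℤ)))) := (CMRegLib.isCoh_tensor_inv hQ hL).1
  obtain ⟨e⟩ := nonempty_twist_fibre (n := n) y (m - (i : ℤ))
  haveI := EulerIneqLib.finite_HH (k := S.residueField y) (X := CohB1.ProjSpace n (S.residueField y))
    (CMRegLib.isCoh_twistBy (PullbackMod.isCoh_pullback (GenSeesawLib.fibreMap n S y) Q hQ) (m - (i : ℤ))) i
  refine (Module.finrank_zero_iff (R := S.residueField y)).1 ?_
  refine Eq.trans ?_ (hreg i hi)
  rw [fiberRank_proj]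
  exact (CMRegLib.hh_finrank_iso (AmpleLib.pullTensor _ Q _ ≪≫ AmpleLib.tIso (Iso.refl _) e) i).symm

theorem fiberRank_twist_eq_zero [IsNoetherian S] {Q : (CohB1.ProjSpaceOver n S).Modules} (hQ : Coh.IsCoh Q) {m : ℤ}
    (y : S) (hreg : Curv2.IsMRegular (S.residueField y) n ((Scheme.Modules.pullback (GenSeesawLib.fibreMap n S y)).obj Q) m)
    {d : ℤ} {i : ℕ} (hi : 1 ≤ i) (hd : m - i ≤ d) :
    CohIII.fiberRank (CohB1.ProjSpaceOver.toBase n S) (CohB1.tensorMod Q (Twist.twistOver n S d)) i y = 0 := by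
  haveI : IsProper (CohB1.ProjSpaceOver.toBase n S) := BCLib.isProper_toBase n S
  haveI : IsLocallyNoetherian (CohB1.ProjSpaceOver n S) :=
    LocallyOfFiniteType.isLocallyNoetherian (CohB1.ProjSpaceOver.toBase n S)
  haveI : IsProper (CohB1.ProjSpace n (S.residueField y) ↘ Spec (CommRingCat.of (S.residueField y))) :=
    CompleteCurve.isProper_toSpec n _
  haveI := CMRegLib.isNoetherian_projSpace (k := S.residueField y) (n := n)
  have hL := GenSeesawLib.isInvertible_twistOver n S d
  haveI : Coh.IsQCoh (CohB1.tensorMod Q (Twist.twistOver n S d)) := (CMRegLib.isCoh_tensor_inv hQ hL).1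
  obtain ⟨e⟩ := nonempty_twist_fibre (n := n) y d
  haveI := CMRegLib.vanish_ge (PullbackMod.isCoh_pullback (GenSeesawLib.fibreMap n S y) Q hQ) hreg hi hd
  rw [fiberRank_proj, CMRegLib.hh_finrank_iso (AmpleLib.pullTensor _ Q _ ≪≫ AmpleLib.tIso (Iso.refl _) e) i]
  exact Module.finrank_zero_of_subsingleton

theorem push_twist_of_regular [IsNoetherian S] {Q : (CohB1.ProjSpaceOver n S).Modules} (hQ : Coh.IsCoh Q)
    (hflat : FlatMod.IsFlatOver (CohB1.ProjSpaceOver.toBase n S) Q) {m : ℤ}
    (hreg : ∀ y : S, Curv2.IsMRegular (S.residueField y) n ((Scheme.Modules.pullback (GenSeesawLib.fibreMap n S y)).obj Q) m)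
    {d : ℤ} (hd : m ≤ d) :
    FlatMod.IsFinLocFree ((Coh.push (CohB1.ProjSpaceOver.toBase n S)).obj
        (CohB1.tensorMod Q (Twist.twistOver n S d))) ∧
      (∀ i : ℕ, 1 ≤ i → IsZero ((Coh.RpushAb (CohB1.ProjSpaceOver.toBase n S) i).obj
        (Coh.toAb (CohB1.tensorMod Q (Twist.twistOver n S d))))) ∧
      Epi ((Scheme.Modules.pullbackPushforwardAdjunction (CohB1.ProjSpaceOver.toBase n S)).counit.app
        (CohB1.tensorMod Q (Twist.twistOver n S d))) := by
  let f := CohB1.ProjSpaceOver.toBase n S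
  haveI : IsProper f := BCLib.isProper_toBase n S
  haveI := GenSeesawLib.lfp_toBase n S
  haveI : IsLocallyNoetherian (CohB1.ProjSpaceOver n S) := LocallyOfFiniteType.isLocallyNoetherian f
  haveI : HasInjectiveResolutions (CohB1.ProjSpaceOver n S).Modules := inferInstance
  have hcoh : ∀ j : ℤ, Coh.IsCoh (CohB1.tensorMod Q (Twist.twistOver n S j)) := fun j =>
    CMRegLib.isCoh_tensor_inv hQ (GenSeesawLib.isInvertible_twistOver n S j)
  have hzero : ∀ (i : ℕ) (j : ℤ), 1 ≤ i → m - i ≤ j → IsZero ((Coh.Rpush f i).obj (CohB1.tensorMod Q (Twist.twistOver n S j))) := by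
    intro i j hi hj
    haveI := hQ.1
    haveI : Coh.IsQCoh (DCohLib.tmod Q (Twist.twistOver n S j)) := (hcoh j).1
    haveI : Coh.IsQCoh (CohB1.tensorMod Q (Twist.twistOver n S j)) := (hcoh j).1
    have hfl := TwistFlat.isFlatOver_tensor f (GenSeesawLib.isInvertible_twistOver n S j) hflat
    exact S15985.result f _ (QCohLib.isFP_of_isCoh _ (hcoh j)) hfl i fun y =>
      BCLib.subsingleton_fiberH_of_fiberRank_eq_zero f (hcoh j) hfl i y (fiberRank_twist_eq_zero hQ y (hreg y) hi hj)
  haveI : Coh.IsQCoh (DCohLib.tmod Q (Twist.twistOver n S d)) := (hcoh d).1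
  refine ⟨?_, fun i hi => ?_, ?_⟩
  · haveI := hQ.1
    refine S1027.result f _ (QCohLib.isFP_of_isCoh _ (hcoh d))
      (TwistFlat.isFlatOver_tensor f (GenSeesawLib.isInvertible_twistOver n S d) hflat) ?_ fun i hi => hzero i d hi (by omega)
    exact ⟨DevLib.isClosed_support (hcoh d), inferInstance⟩
  · obtain ⟨e⟩ := S11319.result f (CohB1.tensorMod Q (Twist.twistOver n S d)) i
    exact ((QCohLib.toAbF S).map_isZero (hzero i d hi (by omega))).of_iso e.symm
  · refine S19429.result n S _ (hcoh d).1 fun i hi => ?_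
    obtain ⟨e1⟩ := nonempty_twistOver_mul (n := n) (S := S) (show d + -(i : ℤ) = d - i by ring)
    let e : KRR.twF n S (-(i : ℤ)) (CohB1.tensorMod Q (Twist.twistOver n S d)) ≅
        CohB1.tensorMod Q (Twist.twistOver n S (d - i)) :=
      AmpleLib.comm _ _ ≪≫ AmpleLib.assoc _ _ _ ≪≫ AmpleLib.tIso (Iso.refl Q) e1
    haveI := (hcoh (d - i)).1
    obtain ⟨e'⟩ := S11319.result f (CohB1.tensorMod Q (Twist.twistOver n S (d - i))) i
    exact (((QCohLib.toAbF S).map_isZero (hzero i (d - i) hi (by omega))).of_iso e'.symm).of_iso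
      ((Coh.RpushAb f i).mapIso ((QCohLib.toAbF _).mapIso e))

end Groth.Agent.HilbStratLib
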